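import Cfsg.Agent.Lib.PGroup.CocyclicCentralizers
import Cfsg.Prelude.Def_Local

/-!
# An elementary group acting quadratically with a nondegenerate pairing

`E` acts on `W` fixing `Zb` pointwise and trivially on `W ⧸ Zb`, and for every `w ∉ Zb` the
elements `e w / w` exhaust `Zb`. If `E` is faithful on a coprime group normalised by it, then
`|W| = p ^ 2` and `|E| = p`. For `p ≥ 5` this is impossible in a `p`-solvable group.
-/

set_option autoImplicit false
set_option linter.unusedSectionVars false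
set_option linter.style.haveILetI false

open Subgroup
open scoped commutatorElement
open CfsgLib CfsgLib.PGroup

namespace CfsgLib.SchmidtKernel

universe u v

variable {H : Type u} [Group H] [Finite H] {W : Type v} [CommGroup W] [Finite W]
variable {p : ℕ} [hp : Fact p.Prime]
variable (ρ : H →* MulAut W)

theorem aut_mul_apply (a b : H) (w : W) : ρ (a * b) w = ρ a (ρ b w) := by
  rw [map_mul]; rfl

theorem aut_inv_apply (a : H) (w : W) : ρ a (ρ a⁻¹ w) = w := by
  rw [← aut_mul_apply, mul_inv_cancel, map_one]; rfl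

/-- Stability: an element of order prime to `p` trivial on `Zb` and on `W ⧸ Zb` is trivial. -/
theorem aut_eq_one_of_stable (hρ : Function.Injective ρ) (hW : IsPGroup p W) (Zb : Subgroup W)
    {c : H} (hc : (orderOf c).Coprime p) (h1 : ∀ z ∈ Zb, ρ c z = z)
    (h2 : ∀ w : W, ∃ z ∈ Zb, ρ c w = z * w) : c = 1 := by
  refine hρ (MulEquiv.ext fun w => ?_)
  rw [map_one, MulAut.one_apply]
  obtain ⟨z, hz, hw⟩ := h2 w
  have hk : ∀ k : ℕ, ρ (c ^ k) w = z ^ k * w := by
    intro k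
    induction k with
    | zero => simp
    | succ k ih =>
      rw [pow_succ', aut_mul_apply, ih, map_mul, map_pow, h1 z hz, hw, pow_succ, mul_assoc]
  have h3 := hk (orderOf c)
  rw [pow_orderOf_eq_one, map_one, MulAut.one_apply, right_eq_mul] at h3
  obtain ⟨j, hj⟩ := hW z
  have : z = 1 := orderOf_eq_one_iff.1 (Nat.eq_one_of_dvd_coprimes (hc.pow_right j)
    (orderOf_dvd_of_pow_eq_one h3) (orderOf_dvd_of_pow_eq_one hj))
  rw [hw, this, one_mul]

/-- The hypotheses on `E`, `N` and `Zb`. -/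
structure Pairing (E N : Subgroup H) (Zb : Subgroup W) : Prop where
  inj : Function.Injective ρ
  wp : IsPGroup p W
  comm : ∀ a ∈ E, ∀ b ∈ E, a * b = b * a
  exp : ∀ a ∈ E, a ^ p = 1
  ne_bot : E ≠ ⊥
  normal : N.Normal
  coprime : (Nat.card N).Coprime p
  faithful : centralizer (N : Set H) ≤ N
  fix : ∀ a ∈ E, ∀ z ∈ Zb, ρ a z = z
  into : ∀ a ∈ E, ∀ w : W, ∃ z ∈ Zb, ρ a w = z * w
  surj : ∀ w : W, w ∉ Zb → ∀ z ∈ Zb, ∃ a ∈ E, ρ a w = z * w
  proper : Zb ≠ ⊤

variable {ρ} {E N : Subgroup H} {Zb : Subgroup W}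

theorem Pairing.eq_zpowers (h : Pairing (p := p) ρ E N Zb) :
    ∃ a ∈ E, a ≠ 1 ∧ E = zpowers a := by
  classical
  haveI := h.normal
  have hEp : IsPGroup p E := fun a => ⟨1, Subtype.ext (by simpa using h.exp a a.2)⟩
  have hcop : (Nat.card E).Coprime (Nat.card N) := by
    obtain ⟨k, hk⟩ := IsPGroup.iff_card.1 hEp
    rw [hk]
    exact (Nat.Coprime.pow_right k h.coprime).symm
  have hEN : E ≤ normalizer (N : Set H) := by rw [normalizer_eq_top]; exact le_top
  have hEc : IsMulCommutative E :=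
    isMulCommutative_iff.2 fun a b => Subtype.ext (h.comm _ a.2 _ b.2)
  obtain ⟨B, hB, n, hn, hnB, e, he, hne⟩ : ∃ B ∈ cocyclicSubgroups E, ∃ n ∈ N,
      n ∈ centralizer (B : Set H) ∧ ∃ e ∈ E, e * n ≠ n * e := by
    by_contra hcon
    push Not at hcon
    have hN : N ≤ centralizer (E : Set H) := by
      rw [← (coprime_cocyclic_generation hEc hEN hcop).1]
      exact iSup₂_le fun B hB n hn => mem_centralizer_iff.2 fun e he =>
        hcon B hB n hn.1 hn.2 e he
    have hEle : E ≤ N := (le_centralizer_iff.1 hN).trans h.faithful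
    refine h.ne_bot (eq_bot_iff.2 fun a ha => ?_)
    have hd := Coprime.disjoint_of_coprime_card hcop
    exact hd.le ⟨ha, hEle ha⟩
  obtain ⟨hBE, a, ha, hBa⟩ := hB
  -- every element of `E` is `β * a ^ i`
  have hdec : ∀ x ∈ E, ∃ β ∈ B, ∃ i : ℤ, x = β * a ^ i := by
    intro x hx
    rw [← hBa] at hx
    have hle : zpowers a ≤ normalizer (B : Set H) := zpowers_le.2 (mem_normalizer_iff.2 fun y =>
      ⟨fun hy => by rw [h.comm a ha y (hBE hy), mul_inv_cancel_right]; exact hy,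
      fun hy => by
        have hyE : y ∈ E := by
          have := mul_mem (mul_mem (inv_mem ha) (hBE hy)) ha
          rwa [show a⁻¹ * (a * y * a⁻¹) * a = y by group] at this
        rwa [h.comm a ha y hyE, mul_inv_cancel_right] at hy⟩)
    obtain ⟨β, hβ, k, hk, rfl⟩ := Coprime.mem_sup_exists hle hx
    obtain ⟨i, rfl⟩ := hk
    exact ⟨β, hβ, i, rfl⟩
  by_cases hB1 : B = ⊥
  · refine ⟨a, ha, fun h1 => h.ne_bot ?_, ?_⟩
    · rw [← hBa, hB1, h1, zpowers_one_eq_bot, bot_sup_eq]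
    · rw [← hBa, hB1, bot_sup_eq]
  exfalso
  obtain ⟨b, hbB, hb1⟩ := (ne_bot_iff_exists_ne_one.1 hB1 : ∃ b : B, b ≠ 1) |>
    fun ⟨b, hb⟩ => (⟨b, b.2, fun e => hb (Subtype.ext e)⟩ : ∃ b ∈ B, b ≠ (1 : H))
  have hcomm : ∀ (m : H), m ∈ centralizer (B : Set H) → ∀ β ∈ B, ∀ w,
      ρ β (ρ m w) = ρ m (ρ β w) := by
    intro m hm β hβ w
    rw [← aut_mul_apply, ← aut_mul_apply, mem_centralizer_iff.1 hm β hβ]
  -- `Zb` is invariant under the centralizer of `B`
  have hinv : ∀ m ∈ centralizer (B : Set H), ∀ z ∈ Zb, ρ m z ∈ Zb := by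
    intro m hm z hz
    by_cases hF : ∀ w : W, (∀ β ∈ B, ρ β w = w) → w ∈ Zb
    · exact hF _ fun β hβ => by rw [hcomm m hm β hβ, h.fix β (hBE hβ) z hz]
    push Not at hF
    obtain ⟨w0, hw0, hw0Z⟩ := hF
    obtain ⟨z0, hz0, hz0e⟩ := h.into a ha w0
    have hpow : ∀ i : ℤ, ρ (a ^ i) w0 = z0 ^ i * w0 := by
      intro i
      induction i using Int.induction_on with
      | zero => simp
      | succ i ih =>
        rw [add_comm (i : ℤ) 1, zpow_add, aut_mul_apply, ih, zpow_one, map_mul, map_zpow,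
          h.fix a ha z0 hz0, hz0e, zpow_add, zpow_one, mul_left_comm, mul_assoc]
      | pred i ih =>
        refine (ρ a).injective ?_
        rw [← aut_mul_apply, ← zpow_one_add, show 1 + (-(i : ℤ) - 1) = -i by ring, ih, map_mul,
          map_zpow, h.fix a ha z0 hz0, hz0e, ← mul_assoc, ← zpow_add_one,
          show -(i : ℤ) - 1 + 1 = -i by ring]
    have hcyc : ∀ z ∈ Zb, z ∈ zpowers z0 := by
      intro z hz
      obtain ⟨x, hx, hxe⟩ := h.surj w0 hw0Z z hz
      obtain ⟨β, hβ, i, rfl⟩ := hdec x hx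
      rw [aut_mul_apply, hpow, map_mul, map_zpow, h.fix β (hBE hβ) z0 hz0, hw0 β hβ] at hxe
      exact ⟨i, mul_right_cancel hxe⟩
    have hz0p : z0 ^ p = 1 := by
      have := hpow p
      rw [zpow_natCast, zpow_natCast, h.exp a ha, map_one, MulAut.one_apply, right_eq_mul] at this
      exact this
    obtain ⟨w1, hw1⟩ : ∃ w1, ρ b w1 ≠ w1 := by
      by_contra hcon
      push Not at hcon
      exact hb1 (h.inj (MulEquiv.ext fun w => by rw [map_one, MulAut.one_apply, hcon]))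
    obtain ⟨z1, hz1, hz1e⟩ := h.into b (hBE hbB) w1
    have hz1ne : z1 ≠ 1 := fun e => hw1 (by rw [hz1e, e, one_mul])
    -- `z0` is a power of `z1`
    have hz0z1 : z0 ∈ zpowers z1 := by
      have hle : zpowers z1 ≤ zpowers z0 := zpowers_le.2 (hcyc z1 hz1)
      have hc0 : Nat.card (zpowers z0) ∣ p := by
        rw [Nat.card_zpowers]; exact orderOf_dvd_of_pow_eq_one hz0p
      have hc1 : Nat.card (zpowers z1) ≠ 1 := by
        rw [Nat.card_zpowers]; exact fun e => hz1ne (orderOf_eq_one_iff.1 e)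
      have hd := card_dvd_of_le hle
      have e1 : Nat.card (zpowers z1) = p :=
        ((Nat.dvd_prime hp.out).1 (hd.trans hc0)).resolve_left hc1
      have e0 : Nat.card (zpowers z0) = p :=
        ((Nat.dvd_prime hp.out).1 hc0).resolve_left fun e => hc1 (Nat.dvd_one.1 (e ▸ hd))
      rw [eq_of_le_of_card_ge hle (by rw [e0, e1])]
      exact mem_zpowers z0
    obtain ⟨i, rfl⟩ := hcyc z hz
    obtain ⟨j, rfl⟩ := hz0z1
    simp only [map_zpow]
    refine zpow_mem (zpow_mem ?_ j) i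
    obtain ⟨z2, hz2, hz2e⟩ := h.into b (hBE hbB) (ρ m w1)
    rw [hcomm m hm b hbB, hz1e, map_mul] at hz2e
    rw [mul_right_cancel hz2e]
    exact hz2
  set c := n * e * n⁻¹ * e⁻¹ with hc
  have hcN : c ∈ N := by
    rw [hc, show n * e * n⁻¹ * e⁻¹ = n * (e * n⁻¹ * e⁻¹) by group]
    exact mul_mem hn (h.normal.conj_mem _ (inv_mem hn) e)
  have hnB' : n⁻¹ ∈ centralizer (B : Set H) := inv_mem hnB
  refine hne ?_
  have hc1 : c = 1 := by
    refine aut_eq_one_of_stable (p := p) ρ h.inj h.wp Zb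
      (Nat.Coprime.coprime_dvd_left
        (Nat.card_zpowers c ▸ card_dvd_of_le (zpowers_le.2 hcN)) h.coprime) ?_ ?_
    · intro z hz
      rw [hc, aut_mul_apply, aut_mul_apply, aut_mul_apply, h.fix e⁻¹ (inv_mem he) z hz,
        h.fix e he _ (hinv n⁻¹ hnB' z hz), aut_inv_apply]
    · intro w
      obtain ⟨z, hz, hze⟩ := h.into e⁻¹ (inv_mem he) w
      obtain ⟨z', hz', hze'⟩ := h.into e he (ρ n⁻¹ (z * w))
      refine ⟨ρ n z' * z, mul_mem (hinv n hnB z' hz') hz, ?_⟩
      rw [hc, aut_mul_apply, aut_mul_apply, aut_mul_apply, hze, hze', map_mul, aut_inv_apply,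
        mul_assoc]
  rw [hc, mul_inv_eq_one, mul_inv_eq_iff_eq_mul] at hc1
  exact hc1.symm

theorem Pairing.cards (h : Pairing (p := p) ρ E N Zb) :
    Nat.card W = p ^ 2 ∧ Nat.card Zb = p ∧ Nat.card E = p := by
  classical
  obtain ⟨a, ha, ha1, hE⟩ := h.eq_zpowers
  have hao : orderOf a = p := orderOf_eq_prime (h.exp a ha) ha1
  have hEc : Nat.card E = p := by rw [hE, Nat.card_zpowers, hao]
  obtain ⟨w0, hw0⟩ : ∃ w0 : W, w0 ∉ Zb := by
    by_contra hcon
    push Not at hcon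
    exact h.proper (eq_top_iff.2 fun w _ => hcon w)
  let ψ : W →* W := MonoidHom.mk' (fun w => ρ a w * w⁻¹) fun x y => by
    rw [map_mul, mul_inv, mul_mul_mul_comm]
  have hψr : ψ.range ≤ Zb := by
    rintro _ ⟨w, rfl⟩
    obtain ⟨z, hz, hze⟩ := h.into a ha w
    show ρ a w * w⁻¹ ∈ Zb
    rwa [hze, mul_inv_cancel_right]
  have hpow : ∀ (w : W) (k : ℕ), ρ (a ^ k) w = ψ w ^ k * w := by
    intro w k
    induction k with
    | zero => simp
    | succ k ih =>
      rw [pow_succ', aut_mul_apply, ih, map_mul, map_pow, h.fix a ha _ (hψr ⟨w, rfl⟩),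
        pow_succ, mul_assoc]
      congr 1
      show ρ a w = ρ a w * w⁻¹ * w
      rw [inv_mul_cancel_right]
  have hZle : Zb ≤ zpowers (ψ w0) := by
    intro z hz
    obtain ⟨x, hx, hxe⟩ := h.surj w0 hw0 z hz
    obtain ⟨k, rfl⟩ := mem_zpowers_iff.1 (hE ▸ hx)
    obtain ⟨k', hk'⟩ : ∃ k' : ℕ, a ^ k = a ^ k' :=
      ⟨(k % (orderOf a : ℤ)).toNat, by
        rw [← zpow_natCast, Int.toNat_of_nonneg (Int.emod_nonneg _ (by
          exact_mod_cast (orderOf_pos a).ne')), zpow_mod_orderOf]⟩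
    rw [hk', hpow] at hxe
    exact mul_right_cancel hxe ▸ npow_mem_zpowers _ k'
  have hZeq : Zb = zpowers (ψ w0) := le_antisymm hZle (zpowers_le.2 (hψr ⟨w0, rfl⟩))
  have hψp : ∀ w, ψ w ^ p = 1 := fun w => by
    have := hpow w p
    rwa [h.exp a ha, map_one, MulAut.one_apply, right_eq_mul] at this
  have hψne : ∀ w, w ∉ Zb → ψ w ≠ 1 := by
    intro w hw hψw
    have hz1 : ∀ z ∈ Zb, z = 1 := by
      intro z hz
      obtain ⟨x, hx, hxe⟩ := h.surj w hw z hz
      obtain ⟨k, rfl⟩ := mem_zpowers_iff.1 (hE ▸ hx)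
      obtain ⟨k', hk'⟩ : ∃ k' : ℕ, a ^ k = a ^ k' :=
        ⟨(k % (orderOf a : ℤ)).toNat, by
          rw [← zpow_natCast, Int.toNat_of_nonneg (Int.emod_nonneg _ (by
            exact_mod_cast (orderOf_pos a).ne')), zpow_mod_orderOf]⟩
      rw [hk', hpow, hψw, one_pow, one_mul, right_eq_mul] at hxe
      exact hxe
    refine ha1 (h.inj (MulEquiv.ext fun u => ?_))
    obtain ⟨z, hz, hze⟩ := h.into a ha u
    rw [map_one, MulAut.one_apply, hze, hz1 z hz, one_mul]
  have hZc : Nat.card Zb = p := by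
    rw [hZeq, Nat.card_zpowers]
    exact orderOf_eq_prime (hψp w0) (hψne w0 hw0)
  have hker : ψ.ker = Zb := by
    ext w
    rw [MonoidHom.mem_ker]
    constructor
    · intro hw
      by_contra hn
      exact hψne w hn hw
    · intro hw
      show ρ a w * w⁻¹ = 1
      rw [h.fix a ha w hw, mul_inv_cancel]
  have hrange : ψ.range = Zb :=
    le_antisymm hψr (hZeq.le.trans (zpowers_le.2 ⟨w0, rfl⟩))
  have hidx := Subgroup.index_ker ψ
  rw [hker, hrange, hZc] at hidx
  refine ⟨?_, hZc, hEc⟩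
  rw [← card_mul_index Zb, hidx, hZc, sq]

/-- A perfect subgroup generated by `p`-elements of a `p`-solvable group is trivial. -/
theorem eq_bot_of_perfect_of_pElements (hs : Cfsg.IsPSolvable p H) {K : Subgroup H}
    (hK : ⁅K, K⁆ = K) {S : Set H} (hS : K = closure S)
    (hSp : ∀ s ∈ S, ∃ k : ℕ, s ^ p ^ k = 1) : K = ⊥ := by
  obtain ⟨n, Hs, h0, hl, hm, hn, hf⟩ := hs
  suffices hall : ∀ i, K ≤ Hs i by exact le_bot_iff.1 (h0 ▸ hall 0)
  intro i
  induction i using Fin.reverseInduction with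
  | last => rw [hl]; exact le_top
  | cast i ih =>
    haveI := hn i.castSucc
    set π := QuotientGroup.mk' (Hs i.castSucc) with hπ
    set A := (Hs i.succ).map π with hA
    have hcard : Nat.card A = (Hs i.castSucc).relIndex (Hs i.succ) := by
      rw [hA, hπ, card_map_mk']
    have hKA : K.map π ≤ A := map_mono ih
    suffices hbot : K.map π = ⊥ by
      rwa [Subgroup.map_eq_bot_iff, hπ, QuotientGroup.ker_mk'] at hbot
    rcases hf i with ⟨m, hm'⟩ | hcop
    · rw [hm'] at hcard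
      have hKp : IsPGroup p (K.map π) := (IsPGroup.of_card hcard).to_le hKA
      haveI := hKp.isNilpotent
      by_contra hne
      haveI : Nontrivial (K.map π) := nontrivial_iff_ne_bot _ |>.2 hne
      refine (Group.IsSolvable.commutator_lt_top_of_nontrivial (K.map π)).ne ?_
      apply map_injective (K.map π).subtype_injective
      rw [_root_.commutator_def, map_commutator, ← MonoidHom.range_eq_map, range_subtype,
        ← map_commutator, hK]
    · rw [eq_bot_iff, hS, MonoidHom.map_closure, closure_le]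
      rintro _ ⟨s, hs, rfl⟩
      obtain ⟨k, hk⟩ := hSp s hs
      have h1 : orderOf (π s) ∣ Nat.card A := by
        have hmem : π s ∈ A := mem_map_of_mem π (ih (hS ▸ subset_closure hs))
        exact (Nat.card_zpowers (π s)).symm.dvd.trans (card_dvd_of_le (zpowers_le.2 hmem))
      rw [hcard] at h1
      exact mem_bot.2 (orderOf_eq_one_iff.1 (Nat.eq_one_of_dvd_coprimes (hcop.pow_right k) h1
        (orderOf_dvd_of_pow_eq_one (by rw [← map_pow, hk, map_one]))))
where
  card_map_mk' {G : Type u} [Group G] (N K : Subgroup G) [N.Normal] :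
      Nat.card (K.map (QuotientGroup.mk' N)) = N.relIndex K := by
    have := Subgroup.relIndex_ker (QuotientGroup.mk' N) (K := K)
    rwa [QuotientGroup.ker_mk', eq_comm] at this

/-- For `p ≥ 5` two noncommuting transvection-like elements of order `p` on a group of order
`p ^ 2` do not lie in a `p`-solvable group. -/
theorem false_of_transvections (hρ : Function.Injective ρ) (hs : Cfsg.IsPSolvable p H)
    (h5 : 5 ≤ p) (hW : ∀ w : W, w ^ p = 1) (hcard : Nat.card W = p ^ 2)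
    {x y : H} {a b : W} (hab : closure {a, b} = (⊤ : Subgroup W))
    (hxa : ρ x a = a * b) (hxb : ρ x b = b) (hya : ρ y a = a) (hyb : ρ y b = a * b)
    (hxp : x ^ p = 1) (hyp : y ^ p = 1) : False := by
  have hext : ∀ g g' : H, ρ g a = ρ g' a → ρ g b = ρ g' b → g = g' := by
    intro g g' h1 h2
    refine hρ (MulEquiv.ext fun w => ?_)
    have := MonoidHom.eq_of_eqOn_dense hab (f := (ρ g).toMonoidHom) (g := (ρ g').toMonoidHom) (by
      rintro _ (rfl | rfl)
      · exact h1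
      · exact h2)
    exact DFunLike.congr_fun this w
  obtain ⟨k, hk⟩ : ∃ k : ℕ, 2 * k = p + 1 := by
    obtain ⟨m, hm⟩ := (hp.out.odd_of_ne_two (by omega)).add_odd odd_one
    exact ⟨m, by omega⟩
  set K := closure ({x, y} : Set H) with hK
  have hxK : x ∈ K := subset_closure (Or.inl rfl)
  have hyK : y ∈ K := subset_closure (Or.inr rfl)
  have hzx : ∀ i : ℤ, ρ (x ^ i) a = a * b ^ i ∧ ρ (x ^ i) b = b := by
    intro i
    induction i using Int.induction_on with
    | zero => simp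
    | succ i ih =>
      refine ⟨?_, ?_⟩
      · rw [add_comm (i : ℤ) 1, zpow_add, aut_mul_apply, ih.1, zpow_one, map_mul, map_zpow, hxa,
          hxb, zpow_add, zpow_one, mul_assoc]
      · rw [add_comm (i : ℤ) 1, zpow_add, aut_mul_apply, ih.2, zpow_one, hxb]
    | pred i ih =>
      refine ⟨(ρ x).injective ?_, (ρ x).injective ?_⟩
      · rw [← aut_mul_apply, ← zpow_one_add, show 1 + (-(i : ℤ) - 1) = -i by ring, ih.1, map_mul,
          map_zpow, hxa, hxb, mul_assoc, ← zpow_one_add, show 1 + (-(i : ℤ) - 1) = -i by ring]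
      · rw [← aut_mul_apply, ← zpow_one_add, show 1 + (-(i : ℤ) - 1) = -i by ring, ih.2, hxb]
  have hzy : ∀ i : ℤ, ρ (y ^ i) a = a ∧ ρ (y ^ i) b = a ^ i * b := by
    intro i
    induction i using Int.induction_on with
    | zero => simp
    | succ i ih =>
      refine ⟨?_, ?_⟩
      · rw [add_comm (i : ℤ) 1, zpow_add, aut_mul_apply, ih.1, zpow_one, hya]
      · rw [add_comm (i : ℤ) 1, zpow_add, aut_mul_apply, ih.2, zpow_one, map_mul, map_zpow, hya,
          hyb, zpow_add, zpow_one, mul_left_comm, mul_assoc]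
    | pred i ih =>
      refine ⟨(ρ y).injective ?_, (ρ y).injective ?_⟩
      · rw [← aut_mul_apply, ← zpow_one_add, show 1 + (-(i : ℤ) - 1) = -i by ring, ih.1, hya]
      · rw [← aut_mul_apply, ← zpow_one_add, show 1 + (-(i : ℤ) - 1) = -i by ring, ih.2, map_mul,
          map_zpow, hya, hyb, ← mul_assoc, ← zpow_add_one,
          show -(i : ℤ) - 1 + 1 = -i by ring]
  obtain ⟨m, hm⟩ : ∃ m, m = x ^ (-(k : ℤ)) * y * x * y ^ (-(k : ℤ)) := ⟨_, rfl⟩
  have hmK : m ∈ K := hm ▸ mul_mem (mul_mem (mul_mem (zpow_mem hxK _) hyK) hxK) (zpow_mem hyK _)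
  have hred : ∀ (w : W) (i j : ℤ), (p : ℤ) ∣ i - j → w ^ i = w ^ j := by
    rintro w i j ⟨t, ht⟩
    rw [show i = j + (p : ℤ) * t by omega, zpow_add, zpow_mul, zpow_natCast, hW, one_zpow, mul_one]
  have hk' : (2 : ℤ) * k = p + 1 := by exact_mod_cast hk
  have hma : ρ m a = a ^ (2 : ℤ) := by
    rw [hm, aut_mul_apply, aut_mul_apply, aut_mul_apply, (hzy _).1, hxa, map_mul, hya, hyb,
      map_mul, map_mul, (hzx _).1, (hzx _).2,
      show a * b ^ (-(k : ℤ)) * (a * b ^ (-(k : ℤ)) * b)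
        = a ^ (2 : ℤ) * (b ^ (-(k : ℤ)) * b ^ (-(k : ℤ)) * b) by
          rw [zpow_two]; ac_rfl,
      ← zpow_add, ← zpow_add_one,
      hred b (-(k : ℤ) + -(k : ℤ) + 1) 0 ⟨-1, by omega⟩, zpow_zero, mul_one]
  have hmb : ρ m b = b ^ (k : ℤ) := by
    have h1 : ρ (y * x * y ^ (-(k : ℤ))) b = a ^ (1 - 2 * (k : ℤ)) * b ^ (1 - (k : ℤ)) := by
      rw [aut_mul_apply, aut_mul_apply, (hzy _).2, map_mul, map_zpow, hxa, hxb, map_mul, map_zpow,
        map_mul, hya, hyb, mul_zpow, mul_zpow]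
      rw [show a ^ (-(k : ℤ)) * (a ^ (-(k : ℤ)) * b ^ (-(k : ℤ))) * (a * b)
        = (a ^ (-(k : ℤ)) * a ^ (-(k : ℤ)) * a) * (b ^ (-(k : ℤ)) * b) by ac_rfl,
        ← zpow_add, ← zpow_add_one, ← zpow_add_one]
      congr 2 <;> ring
    rw [hm, show x ^ (-(k : ℤ)) * y * x * y ^ (-(k : ℤ))
      = x ^ (-(k : ℤ)) * (y * x * y ^ (-(k : ℤ))) by group, aut_mul_apply, h1,
      map_mul (ρ (x ^ (-(k : ℤ)))), map_zpow (ρ (x ^ (-(k : ℤ)))),
      map_zpow (ρ (x ^ (-(k : ℤ)))), (hzx _).1, (hzx _).2, mul_zpow, ← zpow_mul, mul_assoc, ← zpow_add,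
      hred a (1 - 2 * (k : ℤ)) 0 ⟨-1, by omega⟩, zpow_zero, one_mul]
    exact hred b _ _ ⟨(k : ℤ) - 1, by linear_combination ((k : ℤ) - 1) * hk'⟩
  have key1 : x * m = m * x ^ (4 : ℤ) := by
    refine hext _ _ ?_ ?_
    · rw [aut_mul_apply, aut_mul_apply, hma, map_zpow, hxa, (hzx 4).1, map_mul, map_zpow, hma, hmb,
        mul_zpow, ← zpow_mul, hred b ((k : ℤ) * 4) 2 ⟨2, by omega⟩]
    · rw [aut_mul_apply, aut_mul_apply, hmb, map_zpow, hxb, (hzx 4).2, hmb]
  have key2 : m * y = y ^ (4 : ℤ) * m := by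
    refine hext _ _ ?_ ?_
    · rw [aut_mul_apply, aut_mul_apply, hya, hma, map_zpow, (hzy 4).1]
    · rw [aut_mul_apply, aut_mul_apply, hyb, map_mul, hma, hmb, map_zpow, (hzy 4).2, mul_zpow,
        ← zpow_mul, hred a (4 * (k : ℤ)) 2 ⟨2, by omega⟩]
  have hx3 : x ^ (3 : ℤ) ∈ ⁅K, K⁆ := by
    have : x ^ (3 : ℤ) = ⁅m⁻¹, x⁆ := by
      rw [commutatorElement_def, inv_inv, mul_assoc (m⁻¹) x m, key1, inv_mul_cancel_left,
        ← zpow_sub_one]
      norm_num
    rw [this]
    exact commutator_mem_commutator (inv_mem hmK) hxK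
  have hy3 : y ^ (3 : ℤ) ∈ ⁅K, K⁆ := by
    have : y ^ (3 : ℤ) = ⁅m, y⁆ := by
      rw [commutatorElement_def, key2, mul_inv_cancel_right, ← zpow_sub_one]
      norm_num
    rw [this]
    exact commutator_mem_commutator hmK hyK
  have hroot : ∀ g : H, g ^ p = 1 → g ^ (3 : ℤ) ∈ ⁅K, K⁆ → g ∈ ⁅K, K⁆ := by
    intro g hg h3
    obtain ⟨u, v, huv⟩ : IsCoprime (p : ℤ) 3 := by
      refine (Nat.prime_iff_prime_int.1 hp.out).coprime_iff_not_dvd.2 fun hd => ?_
      have := Int.le_of_dvd (by norm_num) hd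
      omega
    rw [← zpow_one g, ← huv, zpow_add, mul_comm u, mul_comm v, zpow_mul, zpow_mul, zpow_natCast,
      hg, one_zpow, one_mul]
    exact zpow_mem h3 v
  have hperf : ⁅K, K⁆ = K := by
    refine le_antisymm (commutator_le.2 fun g hg g' hg' => ?_) ?_
    · rw [commutatorElement_def]
      exact mul_mem (mul_mem (mul_mem hg hg') (inv_mem hg)) (inv_mem hg')
    · conv_lhs => rw [hK]
      rw [closure_le]
      rintro _ (rfl | rfl)
      · exact hroot _ hxp hx3
      · exact hroot _ hyp hy3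
  have hbot := eq_bot_of_perfect_of_pElements hs hperf hK (by
    rintro _ (rfl | rfl)
    · exact ⟨1, by rw [pow_one, hxp]⟩
    · exact ⟨1, by rw [pow_one, hyp]⟩)
  have hx1 : x = 1 := mem_bot.1 (hbot ▸ hxK)
  have hb1 : b = 1 := by
    rw [hx1, map_one, MulAut.one_apply, left_eq_mul] at hxa
    exact hxa
  have htop : zpowers a = ⊤ := by
    rw [eq_top_iff, ← hab, closure_le]
    rintro _ (rfl | rfl)
    · exact mem_zpowers _
    · rw [hb1]; exact one_mem _
  have hc : Nat.card (zpowers a) = p ^ 2 := by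
    rw [htop, Nat.card_congr topEquiv.toEquiv, hcard]
  rw [Nat.card_zpowers] at hc
  have := Nat.le_of_dvd hp.out.pos (hc ▸ orderOf_dvd_of_pow_eq_one (hW a))
  nlinarith

end CfsgLib.SchmidtKernel
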