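import Mathlib.GroupTheory.Nilpotent
import Mathlib.GroupTheory.Frattini
import Mathlib.GroupTheory.GroupAction.Quotient
import Cfsg.Agent.Lib.Coprime.PGroupFrattini

/-!
# Groups of prime power order with an automorphism whose proper invariant subgroups are fixed

This is the structure of the normal Sylow subgroup of a minimal non-nilpotent group.
-/

set_option autoImplicit false
set_option linter.unusedSectionVars false
set_option linter.style.haveILetI false

open Subgroup
open scoped commutatorElement

namespace CfsgLib.SchmidtKernel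

universe u

variable {P : Type u} [Group P]

/-- An automorphism of prime order `r` prime to `p` fixing every proper invariant subgroup. -/
structure Data (p : ℕ) (P : Type u) [Group P] where
  α : MulAut P
  r : ℕ
  prime : r.Prime
  ne : r ≠ p
  pow_eq : α ^ r = 1
  ne_one : α ≠ 1
  fixed : ∀ U : Subgroup P, (∀ u ∈ U, α u ∈ U) → U ≠ ⊤ → ∀ u ∈ U, α u = u

/-- Transport along an isomorphism. -/
def Data.congr {p : ℕ} {P' : Type*} [Group P'] (D : Data p P) (e : P ≃* P') : Data p P' where
  α := MulAut.congr e D.α
  r := D.r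
  prime := D.prime
  ne := D.ne
  pow_eq := by rw [← map_pow, D.pow_eq, map_one]
  ne_one h := D.ne_one ((MulAut.congr e).injective (by rw [h, map_one]))
  fixed U hU hne u hu := by
    have h := D.fixed (U.comap e.toMonoidHom) (fun v hv => by
      have := hU (e v) hv
      simpa using this)
      (fun h => hne (eq_top_iff.2 fun w _ => by
        have : e.symm w ∈ U.comap e.toMonoidHom := h ▸ mem_top _
        simpa using this))
      (e.symm u) (by simpa using hu)
    simpa using congrArg e h

variable {p : ℕ} [hp : Fact p.Prime] [Finite P] (D : Data p P) (hP : IsPGroup p P)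

include D hP in
theorem Data.eq_one_of_pow {u : P} (h : u ^ D.r = 1) : u = 1 := by
  obtain ⟨k, hk⟩ := hP u
  have h1 : Nat.gcd D.r (p ^ k) = 1 :=
    Nat.Coprime.pow_right k ((Nat.coprime_primes D.prime hp.out).2 D.ne)
  have := orderOf_dvd_of_pow_eq_one h
  have h2 := orderOf_dvd_of_pow_eq_one hk
  exact orderOf_eq_one_iff.1 (Nat.dvd_one.1 (h1 ▸ Nat.dvd_gcd this h2))

theorem Data.pow_apply_succ (k : ℕ) (g : P) : (D.α ^ (k + 1)) g = D.α ((D.α ^ k) g) := by
  rw [pow_succ']; rfl

include D hP in
/-- `P` is generated by the elements `g⁻¹ * α g`. -/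
theorem Data.closure_eq_top : closure (Set.range fun g : P => g⁻¹ * D.α g) = ⊤ := by
  by_contra hne
  apply D.ne_one
  set K := closure (Set.range fun g : P => g⁻¹ * D.α g) with hK
  have hinv : ∀ u ∈ K, D.α u ∈ K := by
    intro u hu
    induction hu using closure_induction with
    | mem x hx =>
      obtain ⟨g, rfl⟩ := hx
      refine subset_closure ⟨D.α g, ?_⟩
      simp
    | one => simp
    | mul x y _ _ hx hy => rw [map_mul]; exact mul_mem hx hy
    | inv x _ hx => rw [map_inv]; exact inv_mem hx
  refine MulEquiv.ext fun g => ?_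
  have hk : g⁻¹ * D.α g ∈ K := subset_closure ⟨g, rfl⟩
  have hf := D.fixed K hinv hne _ hk
  have hpow : ∀ k : ℕ, (D.α ^ k) g = g * (g⁻¹ * D.α g) ^ k := by
    intro k
    induction k with
    | zero => simp
    | succ k ih =>
      rw [D.pow_apply_succ, ih, map_mul, map_pow, hf, pow_succ' _ k, ← mul_assoc g,
        mul_inv_cancel_left]
  have h1 := hpow D.r
  rw [D.pow_eq, MulAut.one_apply, left_eq_mul] at h1
  have h2 := D.eq_one_of_pow hP h1
  rw [MulAut.one_apply]
  exact (inv_mul_eq_one.1 h2).symm

include D hP in
theorem Data.nontrivial : Nontrivial P := by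
  by_contra h
  rw [not_nontrivial_iff_subsingleton] at h
  exact D.ne_one (MulEquiv.ext fun g => Subsingleton.elim _ _)

include D hP in
theorem Data.commutator_ne_top : commutator P ≠ ⊤ := by
  haveI := D.nontrivial hP
  haveI := hP.isNilpotent
  exact (Group.IsSolvable.commutator_lt_top_of_nontrivial P).ne

theorem Data.commutator_invariant : ∀ u ∈ commutator P, D.α u ∈ commutator P := by
  intro u hu
  have := Subgroup.characteristic_iff_map_le.1
    (inferInstance : (commutator P).Characteristic) D.α
  exact this ⟨u, hu, rfl⟩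

/-- The partial norm modulo the derived subgroup. -/
def Data.norm (D : Data p P) : ℕ → P →* P ⧸ commutator P
  | 0 => 1
  | k + 1 =>
    MonoidHom.mk' (fun g => QuotientGroup.mk' _ ((D.α ^ k) g) * Data.norm D k g) fun a b => by
      simp only [map_mul]
      have hc : ∀ x y : P ⧸ commutator P, x * y = y * x := fun x y =>
        mul_comm (G := Abelianization P) x y
      rw [mul_assoc, mul_assoc, ← mul_assoc (QuotientGroup.mk' _ ((D.α ^ k) b)),
        hc (QuotientGroup.mk' _ ((D.α ^ k) b)) (Data.norm D k a), mul_assoc]

theorem Data.norm_gen (k : ℕ) (g : P) :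
    D.norm k (g⁻¹ * D.α g) = QuotientGroup.mk' (commutator P) (g⁻¹ * (D.α ^ k) g) := by
  induction k with
  | zero => simp [Data.norm]
  | succ k ih =>
    have hc : ∀ x y : P ⧸ commutator P, x * y = y * x := fun x y =>
      mul_comm (G := Abelianization P) x y
    show QuotientGroup.mk' _ ((D.α ^ k) (g⁻¹ * D.α g)) * D.norm k (g⁻¹ * D.α g) = _
    rw [ih, hc, ← map_mul]
    congr 1
    rw [pow_succ, MulAut.mul_apply, map_mul, map_inv]
    group

theorem Data.norm_fixed (k : ℕ) {g : P} (hg : D.α g = g) :
    D.norm k g = QuotientGroup.mk' (commutator P) g ^ k := by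
  induction k with
  | zero => simp [Data.norm]
  | succ k ih =>
    show QuotientGroup.mk' _ ((D.α ^ k) g) * D.norm k g = _
    have : (D.α ^ k) g = g := by
      clear ih
      induction k with
      | zero => simp
      | succ k ih => rw [D.pow_apply_succ, ih, hg]
    rw [this, ih, pow_succ']

include D hP in
/-- The fixed points are exactly the derived subgroup. -/
theorem Data.fixed_iff (x : P) : D.α x = x ↔ x ∈ commutator P := by
  refine ⟨fun hx => ?_, fun hx => D.fixed _ D.commutator_invariant (D.commutator_ne_top hP) x hx⟩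
  have h0 : D.norm D.r = 1 := by
    refine MonoidHom.eq_of_eqOn_dense (D.closure_eq_top hP) ?_
    rintro _ ⟨g, rfl⟩
    rw [MonoidHom.one_apply, D.norm_gen, D.pow_eq, MulAut.one_apply, inv_mul_cancel, map_one]
  have h1 := D.norm_fixed D.r hx
  rw [h0, MonoidHom.one_apply] at h1
  exact (QuotientGroup.eq_one_iff x).1
    (orderOf_eq_one_iff.1 (Nat.eq_one_of_dvd_coprimes
      (Nat.Coprime.pow_right _ ((Nat.coprime_primes D.prime hp.out).2 D.ne))
      (orderOf_dvd_of_pow_eq_one h1.symm)
      (orderOf_dvd_of_pow_eq_one (hP.to_quotient (commutator P) _).choose_spec)))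

include D hP in
theorem Data.invariant_le {U : Subgroup P} (hU : ∀ u ∈ U, D.α u ∈ U) (hne : U ≠ ⊤) :
    U ≤ commutator P :=
  fun u hu => (D.fixed_iff hP u).1 (D.fixed U hU hne u hu)

include D hP in
theorem Data.commutator_le_center : commutator P ≤ center P := by
  intro x hx
  rw [mem_center_iff]
  intro g
  have hmem : g ∈ closure (Set.range fun g : P => g⁻¹ * D.α g) := by
    rw [D.closure_eq_top hP]; exact mem_top g
  have hle : closure (Set.range fun g : P => g⁻¹ * D.α g) ≤ centralizer ({x} : Set P) := by
    rw [closure_le]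
    rintro _ ⟨h, rfl⟩
    rw [SetLike.mem_coe, mem_centralizer_singleton_iff]
    have h1 : h * x * h⁻¹ ∈ commutator P :=
      (inferInstance : (commutator P).Normal).conj_mem x hx h
    have h2 := (D.fixed_iff hP _).2 h1
    rw [map_mul, map_mul, map_inv, (D.fixed_iff hP x).2 hx] at h2
    have h3 : D.α h * x = h * x * h⁻¹ * D.α h := by rw [← h2, inv_mul_cancel_right]
    rw [mul_assoc, h3]
    group
  exact mem_centralizer_singleton_iff.1 (hle hmem)

include D hP in
theorem Data.center_eq (hna : ¬ IsMulCommutative P) : center P = commutator P := by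
  refine le_antisymm (D.invariant_le hP (fun u hu => ?_) fun h => ?_) (D.commutator_le_center hP)
  · exact Subgroup.characteristic_iff_map_le.1
      (inferInstance : (center P).Characteristic) D.α ⟨u, hu, rfl⟩
  · exact hna (isMulCommutative_iff.2 fun a b =>
      ((mem_center_iff.1 (h ▸ mem_top a)) b).symm)

include D hP in
theorem Data.pow_mem (x : P) : x ^ p ∈ commutator P := by
  refine D.invariant_le hP (fun u hu => ?_) (fun h => ?_)
    (CfsgLib.Coprime.pow_mem_frattini hP x)
  · exact Subgroup.characteristic_iff_map_le.1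
      (inferInstance : (frattini P).Characteristic) D.α ⟨u, hu, rfl⟩
  · haveI := D.nontrivial hP
    have := frattini_nongenerating (K := (⊥ : Subgroup P)) (by rw [bot_sup_eq]; exact h)
    exact bot_ne_top this

include D hP in
theorem Data.commutator_mul (x a b : P) : ⁅x, a * b⁆ = ⁅x, a⁆ * ⁅x, b⁆ := by
  have hc : ⁅x, b⁆ ∈ center P :=
    D.commutator_le_center hP (commutator_mem_commutator (mem_top x) (mem_top b))
  have : ⁅x, a * b⁆ = ⁅x, a⁆ * (a * ⁅x, b⁆ * a⁻¹) := by
    simp only [commutatorElement_def]; group
  rw [this, (mem_center_iff.1 hc a), mul_inv_cancel_right]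

include D hP in
/-- `⁅x, ·⁆` maps onto the derived subgroup for `x` outside it. -/
theorem Data.exists_commutator {x : P} (hx : x ∉ commutator P) {z : P} (hz : z ∈ commutator P) :
    ∃ g : P, ⁅x, g⁆ = z := by
  let T : Subgroup P := (MonoidHom.mk' (fun g : P => ⁅x, g⁆) (D.commutator_mul hP x)).range
  have hTc : ∀ t ∈ T, t ∈ commutator P := by
    rintro _ ⟨g, rfl⟩
    exact commutator_mem_commutator (mem_top x) (mem_top g)
  let U : Subgroup P :=
    { carrier := {y | ∀ g, ⁅y, g⁆ ∈ T}
      one_mem' := fun g => by rw [commutatorElement_one_left]; exact one_mem T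
      mul_mem' := fun {a b} ha hb g => by
        have hc : ⁅b, g⁆ ∈ center P :=
          D.commutator_le_center hP (commutator_mem_commutator (mem_top b) (mem_top g))
        have : ⁅a * b, g⁆ = a * ⁅b, g⁆ * a⁻¹ * ⁅a, g⁆ := by
          simp only [commutatorElement_def]; group
        rw [this, mem_center_iff.1 hc a, mul_inv_cancel_right]
        exact mul_mem (hb g) (ha g)
      inv_mem' := fun {a} ha g => by
        have : ⁅a⁻¹, g⁆ = a⁻¹ * ⁅a, g⁆⁻¹ * a := by simp only [commutatorElement_def]; group
        have hc : ⁅a, g⁆⁻¹ ∈ center P := inv_mem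
          (D.commutator_le_center hP (commutator_mem_commutator (mem_top a) (mem_top g)))
        rw [this, mem_center_iff.1 hc a⁻¹, inv_mul_cancel_right]
        exact inv_mem (ha g) }
  have hxU : x ∈ U := fun g => ⟨g, rfl⟩
  have hUinv : ∀ u ∈ U, D.α u ∈ U := by
    intro u hu g
    have h1 := hu (D.α.symm g)
    have h2 := (D.fixed_iff hP _).2 (hTc _ h1)
    rw [map_commutatorElement, MulEquiv.apply_symm_apply] at h2
    rw [h2]; exact h1
  have hU : U = ⊤ := by
    by_contra h
    exact hx (D.invariant_le hP hUinv h hxU)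
  have : commutator P ≤ T := by
    rw [_root_.commutator_def, commutator_le]
    intro a _ b _
    exact (show a ∈ U by rw [hU]; exact mem_top a) b
  exact this hz

end CfsgLib.SchmidtKernel
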