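import Cfsg.Agent.Lib.PGroup.SchmidtKernel.Core
import Cfsg.Agent.Lib.PGroup.SchmidtKernel.Action
import Cfsg.Agent.Lib.PGroup.FrattiniLe
import Cfsg.Agent.Lib.Coprime.FrattiniExtra
import Cfsg.Agent.Lib.Coprime.Solvable
import Cfsg.Agent.Lib.Block.PSolvableOne
import Cfsg.Agent.Lib.Fusion.FFPair.Holomorph

/-!
# A `p`-solvable group whose Sylow subgroup is a Schmidt kernel has `p`-length at most one
-/

set_option autoImplicit false
set_option linter.unusedSectionVars false
set_option linter.style.haveILetI false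

open Subgroup
open scoped commutatorElement

namespace CfsgLib.SchmidtKernel

universe u

variable {G : Type u} [Group G]

/-- Conjugation on the Frattini quotient of a normal subgroup. -/
noncomputable def frattiniAct (V : Subgroup G) [V.Normal] : G →* MulAut (V ⧸ frattini V) where
  toFun g := QuotientGroup.congr (frattini V) (frattini V) (MulAut.conjNormal g)
    (Subgroup.characteristic_iff_map_eq.1 inferInstance _)
  map_one' := by
    refine MulEquiv.ext fun q => ?_
    obtain ⟨v, rfl⟩ := QuotientGroup.mk'_surjective (frattini V) q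
    simp
  map_mul' g h := by
    refine MulEquiv.ext fun q => ?_
    obtain ⟨v, rfl⟩ := QuotientGroup.mk'_surjective (frattini V) q
    simp [map_mul]
    rfl

theorem frattiniAct_mk (V : Subgroup G) [V.Normal] (g : G) (v : V) :
    frattiniAct V g (QuotientGroup.mk' (frattini V) v) =
      QuotientGroup.mk' (frattini V) (MulAut.conjNormal g v) := rfl

/-- The derived subgroup is generated by one commutator. -/
theorem Data.le_zpowers_commutator {P : Type u} [Group P] [Finite P] {p : ℕ} [Fact p.Prime]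
    (D : Data p P) (hP : IsPGroup p P) {a b : P} (ha : a ∉ commutator P)
    (hdec : ∀ q : P, ∃ (i j : ℤ) (z : P), z ∈ commutator P ∧ q = b ^ i * a ^ j * z) :
    commutator P ≤ zpowers ⁅a, b⁆ := by
  intro z hz
  obtain ⟨g, rfl⟩ := D.exists_commutator hP ha hz
  obtain ⟨i, j, z', hz', rfl⟩ := hdec g
  let φ : P →* P := MonoidHom.mk' (fun g => ⁅a, g⁆) (D.commutator_mul hP a)
  show φ (b ^ i * a ^ j * z') ∈ zpowers ⁅a, b⁆
  have h1 : φ a = 1 := commutatorElement_self a
  have h2 : φ z' = 1 :=
    commutatorElement_eq_one_iff_mul_comm.2 (mem_center_iff.1 (D.commutator_le_center hP hz') a)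
  rw [map_mul, map_mul, map_zpow, map_zpow, h1, h2, one_zpow, mul_one, mul_one]
  exact zpow_mem_zpowers _ i

variable [Finite G] {p : ℕ} [hp : Fact p.Prime]

/-- The `p`-group case `p = 3`: no invariant maximal subgroup forces `p ≠ 3`. -/
theorem Data.not_three {P : Type u} [Group P] [Finite P] (D : Data p P) (hP : IsPGroup p P)
    (h9 : (commutator P).index = p ^ 2) {U : Subgroup P} (hU : commutator P ≤ U) {a : P}
    (ha : a ∈ U) (hb : D.α a ∉ U) : p ≠ 3 := by
  intro h3
  classical
  let σ : MulAut (P ⧸ commutator P) := QuotientGroup.congr _ _ D.α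
    (Subgroup.characteristic_iff_map_eq.1 inferInstance _)
  have hσk : ∀ (k : ℕ) (x : P), (σ ^ k) (QuotientGroup.mk' _ x) =
      QuotientGroup.mk' _ ((D.α ^ k) x) := by
    intro k x
    induction k with
    | zero => simp
    | succ k ih => rw [pow_succ', MulAut.mul_apply, ih, D.pow_apply_succ]; rfl
  have hσr : σ ^ D.r = 1 := by
    refine MulEquiv.ext fun q => ?_
    obtain ⟨x, rfl⟩ := QuotientGroup.mk'_surjective _ q
    rw [hσk, D.pow_eq]; simp
  have hfix : ∀ x : P, σ (QuotientGroup.mk' _ x) = QuotientGroup.mk' _ x →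
      x ∈ commutator P := by
    intro x hx
    have hz : x⁻¹ * D.α x ∈ commutator P := QuotientGroup.eq.1 hx.symm
    have hk : ∀ k : ℕ, (D.α ^ k) x = x * (x⁻¹ * D.α x) ^ k := by
      intro k
      induction k with
      | zero => simp
      | succ k ih =>
        rw [D.pow_apply_succ, ih, map_mul, map_pow, (D.fixed_iff hP _).2 hz, pow_succ' _ k,
          ← mul_assoc x, mul_inv_cancel_left]
    have h1 := hk D.r
    rw [D.pow_eq, MulAut.one_apply, left_eq_mul] at h1
    exact (D.fixed_iff hP x).1 (inv_mul_eq_one.1 (D.eq_one_of_pow hP h1)).symm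
  haveI := Fact.mk D.prime
  have hr : IsPGroup D.r (zpowers σ) := by
    rintro ⟨s, hs⟩
    obtain ⟨i, rfl⟩ := mem_zpowers_iff.1 hs
    refine ⟨1, Subtype.ext ?_⟩
    show (σ ^ i) ^ D.r ^ 1 = 1
    rw [pow_one, ← zpow_natCast, ← zpow_mul, mul_comm, zpow_mul, zpow_natCast, hσr, one_zpow]
  have hmod := hr.card_modEq_card_fixedPoints (P ⧸ commutator P)
  have h1 : Nat.card (MulAction.fixedPoints (zpowers σ) (P ⧸ commutator P)) = 1 := by
    rw [Nat.card_coe_set_eq, Set.ncard_eq_one]
    refine ⟨1, Set.eq_singleton_iff_unique_mem.2 ⟨fun s => smul_one s, fun q hq => ?_⟩⟩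
    obtain ⟨x, rfl⟩ := QuotientGroup.mk'_surjective _ q
    exact (QuotientGroup.eq_one_iff x).2 (hfix x (hq ⟨σ, mem_zpowers σ⟩))
  rw [h1, ← index_eq_card, h9] at hmod
  subst h3
  have h8 : D.r ∣ 8 := (Nat.modEq_iff_dvd' (by norm_num)).1 hmod.symm
  have hr2 : D.r = 2 :=
    (Nat.prime_dvd_prime_iff_eq D.prime Nat.prime_two).1
      (D.prime.dvd_of_dvd_pow (n := 3) (by norm_num; exact h8))
  refine hb ?_
  have hz : a * D.α a ∈ commutator P := by
    refine hfix _ ?_
    have h := hσk 2 a
    rw [← hr2, hσr, D.pow_eq] at h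
    show QuotientGroup.mk' _ (D.α (a * D.α a)) = _
    have h2 : D.α (D.α a) = a := by
      have := DFunLike.congr_fun D.pow_eq a
      rw [hr2, pow_two] at this
      exact this
    rw [map_mul, h2, map_mul, map_mul]
    exact mul_comm (G := Abelianization P) _ _
  have := mul_mem (inv_mem ha) (hU hz)
  rwa [inv_mul_cancel_left] at this

/-- The `p`-group case `p = 2`. -/
theorem Data.false_of_two {P : Type u} [Group P] [Finite P] (D : Data p P) (hP : IsPGroup p P)
    (h2 : p = 2) (h4 : (commutator P).index = p ^ 2) (hZp : ∀ z ∈ commutator P, z ^ p = 1)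
    {U : Subgroup P} (hU : commutator P ≤ U) (hUp : ∀ u ∈ U, u ^ p = 1) {a : P} (ha : a ∈ U)
    (hb : D.α a ∉ U) (hna : ⁅a, D.α a⁆ ≠ 1) : False := by
  subst h2
  set b := D.α a with hbdef
  set c := D.α b with hcdef
  have haZ : a ∉ commutator P := fun h => hb (by rw [hbdef, (D.fixed_iff hP a).2 h]; exact ha)
  have hcc : ∀ x y : P ⧸ commutator P, x * y = y * x := fun x y =>
    mul_comm (G := Abelianization P) x y
  -- `c` lies outside the other three cosets
  have hc1 : c ∉ commutator P := by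
    intro h
    have h1 : D.α b = b := D.α.injective ((D.fixed_iff hP c).2 h)
    exact hb (hU ((D.fixed_iff hP b).1 h1))
  have hc2 : b⁻¹ * c ∉ commutator P := by
    intro h
    have h1 : D.α (a⁻¹ * b) = b⁻¹ * c := by rw [map_mul, map_inv]
    have h3 : a⁻¹ * b = b⁻¹ * c := D.α.injective (by rw [(D.fixed_iff hP _).2 h, h1])
    refine hb ?_
    have := mul_mem ha (hU (h3 ▸ h))
    rwa [mul_inv_cancel_left] at this
  have hc3 : a⁻¹ * c ∉ commutator P := by
    intro h
    have hz := (D.fixed_iff hP _).2 h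
    have hk : ∀ i : ℕ, (D.α ^ (2 * i)) a = a * (a⁻¹ * c) ^ i := by
      intro i
      induction i with
      | zero => simp
      | succ i ih =>
        rw [show 2 * (i + 1) = 2 * i + 1 + 1 by ring, D.pow_apply_succ, D.pow_apply_succ, ih,
          map_mul, map_mul, map_pow, map_pow, hz, hz, ← hbdef, ← hcdef, pow_succ' _ i,
          ← mul_assoc a, mul_inv_cancel_left]
    obtain ⟨i, hi⟩ := D.prime.odd_of_ne_two D.ne
    have h1 := DFunLike.congr_fun D.pow_eq a
    rw [hi, D.pow_apply_succ, hk, map_mul, map_pow, hz, MulAut.one_apply, ← hbdef,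
      ← eq_mul_inv_iff_mul_eq] at h1
    exact hb (h1 ▸ mul_mem ha (inv_mem (_root_.pow_mem (hU h) i)))
  -- hence in the coset of `a * b`
  have hc4 : (a * b)⁻¹ * c ∈ commutator P := by
    classical
    by_contra h
    haveI : Fintype (P ⧸ commutator P) := Fintype.ofFinite _
    let π := QuotientGroup.mk' (commutator P)
    have hne : ∀ x y : P, x⁻¹ * y ∉ commutator P → π x ≠ π y := fun x y hxy he =>
      hxy (QuotientGroup.eq.1 he)
    have hab : π a ≠ π b := hne a b fun h => hb (by simpa using mul_mem ha (hU h))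
    have hb1 : π 1 ≠ π b := hne 1 b fun h => hb (hU (by simpa using h))
    have ha1 : π 1 ≠ π a := hne 1 a (by simpa using haZ)
    have hp1 : π 1 ≠ π (a * b) := hne 1 (a * b) fun h => hb (by
      rw [inv_one, one_mul] at h
      have := mul_mem (inv_mem ha) (hU h)
      rwa [inv_mul_cancel_left] at this)
    have hpa : π a ≠ π (a * b) := hne a (a * b) fun h => hb (hU (by simpa using h))
    have hpb : π b ≠ π (a * b) := fun he => by
      rw [map_mul, right_eq_mul] at he
      exact ha1 (by rw [map_one, he])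
    have e1 : π 1 ≠ π c := hne 1 c (by simpa using hc1)
    have e2 : π a ≠ π c := hne a c hc3
    have e3 : π b ≠ π c := hne b c hc2
    have e4 : π (a * b) ≠ π c := hne _ c h
    have hcard : ({π 1, π a, π b, π (a * b), π c} : Finset (P ⧸ commutator P)).card = 5 := by
      rw [Finset.card_insert_of_notMem (by simp only [Finset.mem_insert, Finset.mem_singleton]; tauto),
        Finset.card_insert_of_notMem (by simp only [Finset.mem_insert, Finset.mem_singleton]; tauto),
        Finset.card_insert_of_notMem (by simp only [Finset.mem_insert, Finset.mem_singleton]; tauto),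
        Finset.card_insert_of_notMem (by simp only [Finset.mem_singleton]; tauto),
        Finset.card_singleton]
    have := Finset.card_le_univ ({π 1, π a, π b, π (a * b), π c} : Finset (P ⧸ commutator P))
    rw [hcard, ← Nat.card_eq_fintype_card, ← index_eq_card, h4] at this
    omega
  set z := (a * b)⁻¹ * c with hz
  have hzc : ∀ g, g * z = z * g := mem_center_iff.1 (D.commutator_le_center hP hc4)
  have ha2 : a * a = 1 := by rw [← pow_two]; exact hUp a ha
  have hb2 : b * b = 1 := by rw [hbdef, ← map_mul, ha2, map_one]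
  have hc22 : c * c = 1 := by rw [hcdef, ← map_mul, hb2, map_one]
  have hzz : z * z = 1 := by rw [← pow_two]; exact hZp z hc4
  have hce : c = a * b * z := by rw [hz, mul_inv_cancel_left]
  have hsq : (a * b) * (a * b) = 1 := by
    rw [hce, mul_assoc (a * b), ← mul_assoc z, ← hzc (a * b), mul_assoc (a * b) z z, hzz,
      mul_one] at hc22
    exact hc22
  refine hna ?_
  rw [commutatorElement_def, inv_eq_of_mul_eq_one_right ha2, inv_eq_of_mul_eq_one_right hb2,
    mul_assoc, mul_assoc, ← mul_assoc a b]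
  exact hsq

theorem exists_transvection_base {H : Type u} [Group H] [Finite H] {W : Type u} [CommGroup W]
    [Finite W] (ρ : H →* MulAut W) {E N : Subgroup H} {Zb : Subgroup W}
    (h : Pairing (p := p) ρ E N Zb) (hs : Cfsg.IsPSolvable p H) (h5 : 5 ≤ p)
    (hW : ∀ w : W, w ^ p = 1) (hcards : Nat.card W = p ^ 2 ∧ Nat.card Zb = p ∧ Nat.card E = p)
    (S : Sylow p H) (hSE : (S : Subgroup H) = E) (hO : Cfsg.pCore p H = ⊥) : False := by
  obtain ⟨hWc, hZc, hEc⟩ := hcards
  obtain ⟨e, he, he1, hE⟩ := h.eq_zpowers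
  obtain ⟨g, hg⟩ : ∃ g : H, g * e * g⁻¹ ∉ E := by
    by_contra hcon
    push Not at hcon
    have hn : E.Normal := ⟨fun n hn g => by
      obtain ⟨i, rfl⟩ := mem_zpowers_iff.1 (hE ▸ hn)
      rw [← conj_zpow]; exact zpow_mem (hcon g) i⟩
    exact h.ne_bot (le_bot_iff.1 (hO ▸ (le_sSup ⟨hn, hSE ▸ S.2⟩ : E ≤ Cfsg.pCore p H)))
  set e' := g * e * g⁻¹ with he'
  have he'fix : ∀ z ∈ Zb, ρ e' (ρ g z) = ρ g z := fun z hz => by
    rw [← aut_mul_apply, he', inv_mul_cancel_right, aut_mul_apply, h.fix e he z hz]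
  -- the image of `Zb` differs from `Zb`
  obtain ⟨a', ha', haZ⟩ : ∃ a' ∈ Zb, ρ g a' ∉ Zb := by
    by_contra hcon
    push Not at hcon
    have hon : ∀ z ∈ Zb, ∃ z' ∈ Zb, ρ g z' = z := by
      intro z hz
      have hmap : Zb.map (ρ g).toMonoidHom = Zb := eq_of_le_of_card_ge
        (by rintro _ ⟨w, hw, rfl⟩; exact hcon w hw)
        (card_map_of_injective (ρ g).injective).ge
      exact hmap.symm.le hz
    let T : Subgroup H :=
      { carrier := {s | (∀ z ∈ Zb, ρ s z = z) ∧ ∀ w, ∃ z ∈ Zb, ρ s w = z * w}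
        one_mem' := ⟨fun z _ => by simp, fun w => ⟨1, one_mem _, by simp⟩⟩
        mul_mem' := fun {s t} hs ht => ⟨fun z hz => by rw [aut_mul_apply, ht.1 z hz, hs.1 z hz],
          fun w => by
            obtain ⟨z, hz, hze⟩ := ht.2 w
            obtain ⟨z', hz', hze'⟩ := hs.2 w
            exact ⟨z * z', mul_mem hz hz', by
              rw [aut_mul_apply, hze, map_mul, hs.1 z hz, hze', mul_assoc]⟩⟩
        inv_mem' := fun {s} hs => ⟨fun z hz => (ρ s).injective (by
            rw [aut_inv_apply, hs.1 z hz]),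
          fun w => by
            obtain ⟨z, hz, hze⟩ := hs.2 w
            exact ⟨z⁻¹, inv_mem hz, (ρ s).injective (by
              rw [aut_inv_apply, map_mul, hze, hs.1 _ (inv_mem hz), inv_mul_cancel_left])⟩⟩ }
    have hET : E ≤ T := fun x hx => ⟨h.fix x hx, h.into x hx⟩
    have hTp : IsPGroup p T := CfsgLib.Invol.isPGroup_of_coprime_trivial T fun c hc hco =>
      aut_eq_one_of_stable ρ h.inj h.wp Zb hco hc.1 hc.2
    have hTE : T = E := (S.3 hTp (hSE ▸ hET)).trans hSE
    refine hg ?_
    rw [← hTE]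
    refine ⟨fun z hz => ?_, fun w => ?_⟩
    · obtain ⟨z', hz', rfl⟩ := hon z hz
      exact he'fix z' hz'
    · obtain ⟨w', rfl⟩ := (ρ g).surjective w
      obtain ⟨z, hz, hze⟩ := h.into e he w'
      exact ⟨ρ g z, hcon z hz, by
        rw [← aut_mul_apply, he', inv_mul_cancel_right, aut_mul_apply, hze, map_mul]⟩
  set a := ρ g a' with ha
  obtain ⟨b, hb, hbe⟩ := h.into e he a
  have hb1 : b ≠ 1 := by
    rintro rfl
    rw [one_mul] at hbe
    have : Zb = ⊥ := eq_bot_iff.2 fun z hz => mem_bot.2 (by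
      obtain ⟨x, hx, hxe⟩ := h.surj a haZ z hz
      obtain ⟨i, rfl⟩ := mem_zpowers_iff.1 (hE ▸ hx)
      have hfix : ∀ y ∈ zpowers e, ρ y a = a := fun y hy => by
        have hle : zpowers e ≤ (MulAction.stabilizer (MulAut W) a).comap ρ :=
          zpowers_le.2 hbe
        exact hle hy
      rw [hfix _ (zpow_mem_zpowers e i), right_eq_mul] at hxe
      exact hxe)
    rw [this, card_bot] at hZc
    exact hp.out.ne_one hZc.symm
  have hbZ : zpowers b = Zb := eq_of_le_of_card_ge (zpowers_le.2 hb) (by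
    rw [hZc, Nat.card_zpowers, orderOf_eq_prime (hW b) hb1])
  have hab : closure ({a, b} : Set W) = ⊤ := by
    have hle : Zb < closure {a, b} := by
      refine lt_of_le_of_ne ?_ fun hh => haZ (hh ▸ subset_closure (Or.inl rfl))
      rw [← hbZ, zpowers_le]
      exact subset_closure (Or.inr rfl)
    refine eq_top_of_card_eq _ ?_
    have hlt : Nat.card Zb < Nat.card (closure ({a, b} : Set W)) := by
      refine lt_of_le_of_ne (card_le_of_le hle.le) fun hh => hle.ne (eq_of_le_of_card_ge hle.le hh.ge)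
    have hd := card_subgroup_dvd_card (closure ({a, b} : Set W))
    rw [hWc] at hd ⊢
    obtain ⟨i, hi, hie⟩ := (Nat.dvd_prime_pow hp.out).1 hd
    rw [hZc, hie] at hlt
    rw [hie]
    have h1 : 1 < i := (Nat.pow_lt_pow_iff_right hp.out.one_lt).1 (by rwa [pow_one])
    rw [show i = 2 by omega]
  -- the second transvection
  have hya : ρ e' a = a := he'fix a' ha'
  obtain ⟨z0, hz0, hz0e⟩ : ∃ z0 ∈ Zb.map (ρ g).toMonoidHom, ρ e' b = z0 * b := by
    obtain ⟨w', hw'⟩ := (ρ g).surjective b
    obtain ⟨z, hz, hze⟩ := h.into e he w'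
    refine ⟨ρ g z, ⟨z, hz, rfl⟩, ?_⟩
    rw [← hw', ← aut_mul_apply, he', inv_mul_cancel_right, aut_mul_apply, hze, map_mul]
  have he'1 : e' ≠ 1 := fun hh => hg (hh ▸ one_mem E)
  have hz01 : z0 ≠ 1 := by
    rintro rfl
    rw [one_mul] at hz0e
    refine he'1 (h.inj (MulEquiv.ext fun w => ?_))
    have := MonoidHom.eq_of_eqOn_dense hab (f := (ρ e').toMonoidHom) (g := MonoidHom.id W) (by
      rintro _ (rfl | rfl)
      · exact hya
      · exact hz0e)
    rw [map_one]
    exact DFunLike.congr_fun this w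
  have hza : Zb.map (ρ g).toMonoidHom = zpowers a := (eq_of_le_of_card_ge
    (zpowers_le.2 (show a ∈ Zb.map (ρ g).toMonoidHom from ⟨a', ha', rfl⟩)) (by
      rw [card_map_of_injective (ρ g).injective, hZc, Nat.card_zpowers,
        orderOf_eq_prime (hW a) fun hh => haZ (hh ▸ one_mem Zb)])).symm
  obtain ⟨i, hi⟩ := mem_zpowers_iff.1 (hza ▸ hz0)
  have hip : ¬ (p : ℤ) ∣ i := by
    rintro ⟨t, rfl⟩
    rw [zpow_mul, zpow_natCast, hW, one_zpow] at hi
    exact hz01 hi.symm
  obtain ⟨u, v, huv⟩ : IsCoprime (p : ℤ) i :=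
    (Nat.prime_iff_prime_int.1 hp.out).coprime_iff_not_dvd.2 hip
  have hep : e' ^ p = 1 := by
    rw [he', conj_pow, h.exp e he, mul_one, mul_inv_cancel]
  have hv : ρ (e' ^ v) b = a * b ∧ ρ (e' ^ v) a = a := by
    have hgen : ∀ j : ℤ, ρ (e' ^ j) b = z0 ^ j * b ∧ ρ (e' ^ j) a = a := by
      intro j
      have hfa : ρ (e' ^ j) a = a := by
        have hle : zpowers e' ≤ (MulAction.stabilizer (MulAut W) a).comap ρ := zpowers_le.2 hya
        exact hle (zpow_mem_zpowers e' j)
      refine ⟨?_, hfa⟩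
      clear hfa
      induction j using Int.induction_on with
      | zero => simp
      | succ j ih =>
        have hz0f : ρ e' z0 = z0 := by
          obtain ⟨z, hz, rfl⟩ := hz0; exact he'fix z hz
        rw [add_comm (j : ℤ) 1, zpow_add, aut_mul_apply, ih, zpow_one, map_mul, map_zpow, hz0f,
          hz0e, zpow_add, zpow_one, mul_left_comm, mul_assoc]
      | pred j ih =>
        have hz0f : ρ e' z0 = z0 := by
          obtain ⟨z, hz, rfl⟩ := hz0; exact he'fix z hz
        refine (ρ e').injective ?_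
        rw [← aut_mul_apply, ← zpow_one_add, show 1 + (-(j : ℤ) - 1) = -j by ring, ih, map_mul,
          map_zpow, hz0f, hz0e, ← mul_assoc, ← zpow_add_one,
          show -(j : ℤ) - 1 + 1 = -j by ring]
    refine ⟨?_, (hgen v).2⟩
    rw [(hgen v).1, ← hi, ← zpow_mul,
      show i * v = 1 - (p : ℤ) * u by linear_combination huv, zpow_sub, zpow_one,
      zpow_mul, zpow_natCast, hW, one_zpow, inv_one, mul_one]
  exact false_of_transvections h.inj hs h5 hW hWc hab
    (x := e) (y := e' ^ v) (by rw [hbe, mul_comm]) (h.fix e he b hb) hv.2 hv.1 (h.exp e he)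
    (by rw [← zpow_natCast, ← zpow_mul, mul_comm, zpow_mul, zpow_natCast, hep, one_zpow])

open scoped IsMulCommutative in
/-- The reduced case. -/
theorem le_pCore (hs : Cfsg.IsPSolvable p G) (hcore : Cfsg.pPrimeCore p G = ⊥) (Q : Sylow p G)
    (D : Data p ↥(Q : Subgroup G)) : (Q : Subgroup G) ≤ Cfsg.pCore p G := by
  classical
  by_contra hQV
  have hCV := CfsgLib.Block.centralizer_pCore_le_of_isPSolvable hs hcore
  set V := Cfsg.pCore p G with hVdef
  haveI hVn : V.Normal := CfsgLib.Coprime.pCore_normal' p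
  have hVp : IsPGroup p V := CfsgLib.Coprime.pCore_isPGroup p
  have hVQ : V ≤ (Q : Subgroup G) := hVp.le_sylow_of_normal Q
  have hP : IsPGroup p ↥(Q : Subgroup G) := Q.2
  have hna : ¬ IsMulCommutative ↥(Q : Subgroup G) := fun hc => hQV fun x hx =>
    hCV (mem_centralizer_iff.2 fun v hv => congrArg Subtype.val
      (isMulCommutative_iff.1 hc ⟨v, hVQ hv⟩ ⟨x, hx⟩))
  set Z := commutator ↥(Q : Subgroup G) with hZ
  have hZV : ∀ z ∈ Z, (z : G) ∈ V := fun z hz => hCV (mem_centralizer_iff.2 fun v hv =>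
    congrArg Subtype.val (mem_center_iff.1 (D.commutator_le_center hP hz) ⟨v, hVQ hv⟩))
  let iV : V →* ↥(Q : Subgroup G) := Subgroup.inclusion hVQ
  have hiV : Function.Injective iV := Subgroup.inclusion_injective hVQ
  set ZV := Z.comap iV with hZVdef
  set F := frattini V with hFdef
  have hFZ : F ≤ ZV := CfsgLib.FrattiniLe.frattini_le_of_pow_of_commutator
    (fun x => mem_comap.2 (by rw [map_pow]; exact D.pow_mem hP _))
    (by
      rw [_root_.commutator_def, commutator_le]
      intro a _ b _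
      rw [mem_comap, map_commutatorElement]
      exact commutator_mem_commutator (mem_top _) (mem_top _))
  haveI := hVp.isNilpotent
  have hcomF : ∀ x y : V ⧸ F, x * y = y * x := by
    intro x y
    obtain ⟨x, rfl⟩ := QuotientGroup.mk'_surjective F x
    obtain ⟨y, rfl⟩ := QuotientGroup.mk'_surjective F y
    rw [← commutatorElement_eq_one_iff_mul_comm, ← map_commutatorElement]
    exact (QuotientGroup.eq_one_iff _).2 (CfsgLib.Coprime.commutator_le_frattini_of_isNilpotent
      (commutator_mem_commutator (mem_top x) (mem_top y)))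
  letI : CommGroup (V ⧸ F) := { (inferInstance : Group (V ⧸ F)) with mul_comm := hcomF }
  let φ : G →* MulAut (V ⧸ F) := frattiniAct V
  -- the kernel is `V`
  have hker : φ.ker = V := by
    refine le_antisymm ?_ fun g hg => ?_
    · refine le_sSup ⟨inferInstance, CfsgLib.Invol.isPGroup_of_coprime_trivial _ fun y hy hc => ?_⟩
      refine CfsgLib.Invol.eq_one_of_coprime_of_isPGroup hVp (hCV ?_) hc
      have hA : zpowers y ≤ centralizer (V : Set G) := by
        refine CfsgLib.Coprime.le_centralizer_of_trivial_on_frattini_quotient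
          (by rw [normalizer_eq_top]; exact le_top) ?_ fun a ha k hk => ?_
        · obtain ⟨n, hn⟩ := IsPGroup.iff_card.1 (hVp.to_subgroup (frattini V))
          rw [Nat.card_zpowers, hn]
          exact Nat.Coprime.pow_right n hc
        · have haK : a ∈ φ.ker := (zpowers_le.2 hy : zpowers y ≤ φ.ker) ha
          have h1 : φ a (QuotientGroup.mk' F ⟨k, hk⟩) = QuotientGroup.mk' F ⟨k, hk⟩ := by
            rw [MonoidHom.mem_ker.1 haK, MulAut.one_apply]
          rw [show φ a = frattiniAct V a from rfl, frattiniAct_mk] at h1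
          have h2 : MulAut.conjNormal a (⟨k, hk⟩ : V) * (⟨k, hk⟩ : V)⁻¹ ∈ F := by
            rw [← QuotientGroup.eq_one_iff]
            show QuotientGroup.mk' F _ = 1
            rw [map_mul, map_inv, h1, mul_inv_cancel]
          exact ⟨_, h2, by simp⟩
      exact hA (mem_zpowers y)
    · rw [MonoidHom.mem_ker]
      refine MulEquiv.ext fun q => ?_
      obtain ⟨v, rfl⟩ := QuotientGroup.mk'_surjective F q
      have hconj : MulAut.conjNormal g v = ⟨g, hg⟩ * v * ⟨g, hg⟩⁻¹ := Subtype.ext (by simp)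
      show QuotientGroup.mk' F (MulAut.conjNormal g v) = QuotientGroup.mk' F v
      rw [hconj, map_mul, map_mul, map_inv, hcomF (QuotientGroup.mk' F ⟨g, hg⟩),
        mul_inv_cancel_right]
  let ρ : G ⧸ V →* MulAut (V ⧸ F) := QuotientGroup.lift V φ hker.ge
  have hρ : Function.Injective ρ := by
    rw [← MonoidHom.ker_eq_bot_iff, eq_bot_iff]
    rintro x hx
    obtain ⟨g, rfl⟩ := QuotientGroup.mk'_surjective V x
    exact (QuotientGroup.eq_one_iff g).2 (hker.le hx)
  set Zb := ZV.map (QuotientGroup.mk' F) with hZb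
  have hcomap : Zb.comap (QuotientGroup.mk' F) = ZV := by
    rw [hZb, comap_map_eq_self]; rwa [QuotientGroup.ker_mk']
  set E := (Q : Subgroup G).map (QuotientGroup.mk' V) with hEdef
  have hO : Cfsg.pCore p (G ⧸ V) = ⊥ := by
    simpa [hVdef] using CfsgLib.Coprime.pCore_quotient_eq_bot (G := G) p
  have hsH : Cfsg.IsPSolvable p (G ⧸ V) := CfsgLib.PGroup.isPSolvable_quotient hp.out hs V
  have hρmk : ∀ (g : G) (v : V), ρ (QuotientGroup.mk' V g) (QuotientGroup.mk' F v)
      = QuotientGroup.mk' F (MulAut.conjNormal g v) := fun g v => rfl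
  have hconjQ : ∀ (g : ↥(Q : Subgroup G)) (v : V),
      iV (MulAut.conjNormal (g : G) v) = g * iV v * g⁻¹ := fun g v => Subtype.ext (by simp [iV])
  have hPair : Pairing (p := p) ρ E (Cfsg.pPrimeCore p (G ⧸ V)) Zb := by
    refine { inj := hρ, wp := hVp.to_quotient F, comm := ?_, exp := ?_, ne_bot := ?_,
             normal := inferInstance,
             coprime := ?_, faithful := ?_, fix := ?_, into := ?_, surj := ?_, proper := ?_ }
    · rintro _ ⟨a, ha, rfl⟩ _ ⟨b, hb, rfl⟩
      rw [← commutatorElement_eq_one_iff_mul_comm, ← map_commutatorElement]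
      exact (QuotientGroup.eq_one_iff _).2 (hZV (⁅(⟨a, ha⟩ : ↥(Q : Subgroup G)), ⟨b, hb⟩⁆)
        (commutator_mem_commutator (mem_top _) (mem_top _)))
    · rintro _ ⟨a, ha, rfl⟩
      rw [← map_pow]
      exact (QuotientGroup.eq_one_iff _).2 (hZV ((⟨a, ha⟩ : ↥(Q : Subgroup G)) ^ p)
        (D.pow_mem hP _))
    · rw [hEdef, Ne, Subgroup.map_eq_bot_iff, QuotientGroup.ker_mk']
      exact hQV
    · exact CfsgLib.Coprime.pPrimeCore_coprime hp.out
    · exact CfsgLib.FFPair.centralizer_pPrimeCore_le_of_isPSolvable hsH hO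
    · rintro _ ⟨g, hg, rfl⟩ _ ⟨v, hv, rfl⟩
      rw [hρmk]
      congr 1
      refine hiV ?_
      rw [hconjQ ⟨g, hg⟩, mem_center_iff.1 (D.commutator_le_center hP hv), mul_inv_cancel_right]
    · rintro _ ⟨g, hg, rfl⟩ w
      obtain ⟨v, rfl⟩ := QuotientGroup.mk'_surjective F w
      refine ⟨QuotientGroup.mk' F (MulAut.conjNormal g v * v⁻¹), mem_map_of_mem _ ?_, ?_⟩
      · show iV (MulAut.conjNormal g v * v⁻¹) ∈ Z
        rw [map_mul, map_inv, hconjQ ⟨g, hg⟩, ← commutatorElement_def]
        exact commutator_mem_commutator (mem_top _) (mem_top _)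
      · rw [hρmk, ← map_mul, inv_mul_cancel_right]
    · intro w hw z hz
      obtain ⟨v, rfl⟩ := QuotientGroup.mk'_surjective F w
      obtain ⟨z, hz, rfl⟩ := hz
      have hv : iV v ∉ Z := fun h => hw (mem_map_of_mem _ h)
      obtain ⟨g, hg⟩ := D.exists_commutator hP hv (inv_mem hz : (iV z)⁻¹ ∈ Z)
      refine ⟨_, ⟨(g : G), g.2, rfl⟩, ?_⟩
      rw [hρmk, ← map_mul]
      congr 1
      refine hiV ?_
      rw [hconjQ, map_mul, ← inv_inj (a := g * iV v * g⁻¹)]
      have : ⁅g, iV v⁆ = iV z := by rw [← commutatorElement_inv, hg, inv_inv]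
      rw [← this, commutatorElement_def]
      group
    · intro htop
      refine hQV fun g hg => hker.le (MonoidHom.mem_ker.2 (MulEquiv.ext fun w => ?_))
      obtain ⟨v, rfl⟩ := QuotientGroup.mk'_surjective F w
      have hv : v ∈ ZV := hcomap ▸ (show QuotientGroup.mk' F v ∈ Zb from htop ▸ mem_top _)
      show QuotientGroup.mk' F (MulAut.conjNormal g v) = _
      rw [MulAut.one_apply]
      congr 1
      refine hiV ?_
      rw [hconjQ ⟨g, hg⟩, mem_center_iff.1 (D.commutator_le_center hP hv), mul_inv_cancel_right]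
  obtain ⟨hWc, hZbc, hEc⟩ := hPair.cards
  -- translate back to the Sylow subgroup
  set U := V.subgroupOf (Q : Subgroup G) with hUdef
  have hUi : U.index = p := by
    refine Eq.trans ?_ hEc
    rw [hEdef, ← relIndex_bot_left, ← Subgroup.map_bot (QuotientGroup.mk' V),
      relIndex_map_map, bot_sup_eq, QuotientGroup.ker_mk', sup_eq_left.2 hVQ]
    rfl
  have hZU : Z ≤ U := fun z hz => hZV z hz
  have hrangeU : iV.range = U := by
    ext x
    exact ⟨fun ⟨v, hv⟩ => hv ▸ v.2, fun hx => ⟨⟨x, hx⟩, Subtype.ext rfl⟩⟩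
  have hZr : Z.relIndex U = p := by
    rw [← hrangeU, ← Subgroup.index_comap, ← hZVdef, ← hcomap,
      index_comap_of_surjective _ (QuotientGroup.mk'_surjective F)]
    have := card_mul_index Zb
    rw [hWc, hZbc, sq] at this
    exact Nat.eq_of_mul_eq_mul_left hp.out.pos this
  have hUne : ¬ U ≤ Z := fun h => by
    rw [relIndex_eq_one.2 h] at hZr
    exact hp.out.ne_one hZr.symm
  obtain ⟨a, haU, haα⟩ : ∃ a ∈ U, D.α a ∉ U := by
    by_contra hcon
    push Not at hcon
    exact hUne (D.invariant_le hP hcon fun h => by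
      rw [h, index_top] at hUi
      exact hp.out.ne_one hUi.symm)
  have haZ : a ∉ Z := fun h => haα (by rw [(D.fixed_iff hP a).2 h]; exact haU)
  have hZi : Z.index = p ^ 2 := by
    rw [← relIndex_mul_index hZU, hZr, hUi, sq]
  have hdec : ∀ b, b ∉ U → ∀ q, ∃ (i j : ℤ) (z : ↥(Q : Subgroup G)), z ∈ Z ∧
      q = b ^ i * a ^ j * z := by
    intro b hb q
    haveI : U.Normal := normal_subgroupOf
    have h1 : zpowers (QuotientGroup.mk' U b) = ⊤ := zpowers_eq_top_of_prime_card
      (p := p) (by rw [← index_eq_card, hUi]) fun h => hb ((QuotientGroup.eq_one_iff b).1 h)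
    obtain ⟨i, hi⟩ := mem_zpowers_iff.1 (h1 ▸ mem_top (QuotientGroup.mk' U q))
    rw [← map_zpow] at hi
    have hu : (b ^ i)⁻¹ * q ∈ U := QuotientGroup.eq.1 hi
    haveI : (Z.subgroupOf U).Normal := normal_subgroupOf
    have h2 : zpowers (QuotientGroup.mk' (Z.subgroupOf U) ⟨a, haU⟩) = ⊤ :=
      zpowers_eq_top_of_prime_card (p := p) (by rw [← index_eq_card]; exact hZr)
        fun h => haZ ((QuotientGroup.eq_one_iff (⟨a, haU⟩ : U)).1 h)
    obtain ⟨j, hj⟩ := mem_zpowers_iff.1
      (h2 ▸ mem_top (QuotientGroup.mk' (Z.subgroupOf U) ⟨_, hu⟩))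
    rw [← map_zpow] at hj
    refine ⟨i, j, (a ^ j)⁻¹ * ((b ^ i)⁻¹ * q), ?_, by group⟩
    simpa [mem_subgroupOf] using QuotientGroup.eq.1 hj
  have hgen := D.le_zpowers_commutator hP haZ (hdec _ haα)
  set c := ⁅a, D.α a⁆ with hc
  have hcp : c ^ p = 1 := by
    have hmul : c ^ p = ⁅a, D.α a ^ p⁆ :=
      (map_pow (MonoidHom.mk' (fun g => ⁅a, g⁆) (D.commutator_mul hP a)) (D.α a) p).symm
    rw [hmul]
    exact commutatorElement_eq_one_iff_mul_comm.2
      (mem_center_iff.1 (D.commutator_le_center hP (D.pow_mem hP _)) a)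
  have hc1 : c ≠ 1 := by
    intro h
    rw [h, zpowers_one_eq_bot] at hgen
    exact hna (isMulCommutative_iff.2 fun x y => commutatorElement_eq_one_iff_mul_comm.1
      (mem_bot.1 (hgen (commutator_mem_commutator (mem_top x) (mem_top y)))))
  have hZp : ∀ z ∈ Z, z ^ p = 1 := by
    intro z hz
    obtain ⟨i, rfl⟩ := mem_zpowers_iff.1 (hgen hz)
    rw [← zpow_natCast, ← zpow_mul, mul_comm, zpow_mul, zpow_natCast, hcp, one_zpow]
  have hF : F = ⊥ := by
    have hZVc : Nat.card ZV ∣ p := by
      rw [← card_map_of_injective (f := iV) hiV]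
      refine (card_dvd_of_le (map_comap_le _ _)).trans ((card_dvd_of_le hgen).trans ?_)
      rw [Nat.card_zpowers]
      exact orderOf_dvd_of_pow_eq_one hcp
    have hFc : F.relIndex ZV = p := by
      rw [← hZbc, hZb, ← relIndex_bot_left, ← Subgroup.map_bot (QuotientGroup.mk' F),
        relIndex_map_map, bot_sup_eq, QuotientGroup.ker_mk', sup_eq_left.2 hFZ]
    have hmul := relIndex_mul_relIndex ⊥ F ZV bot_le hFZ
    rw [relIndex_bot_left, relIndex_bot_left, hFc] at hmul
    refine F.eq_bot_of_card_eq (Nat.eq_of_mul_eq_mul_right hp.out.pos ?_)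
    rw [one_mul]
    exact le_antisymm (hmul ▸ Nat.le_of_dvd hp.out.pos hZVc)
      (Nat.le_mul_of_pos_left p Nat.card_pos)
  have hVexp : ∀ v : V, v ^ p = 1 := fun v => by
    have h := CfsgLib.Coprime.pow_mem_frattini hVp v
    rwa [← hFdef, hF, mem_bot] at h
  have hUp : ∀ u ∈ U, u ^ p = 1 := fun u hu =>
    Subtype.ext (by
      rw [SubmonoidClass.coe_pow]
      exact congrArg Subtype.val (hVexp ⟨u, hu⟩))
  rcases eq_or_ne p 2 with h2 | h2
  · exact D.false_of_two hP h2 hZi hZp hZU hUp haU haα hc1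
  rcases eq_or_ne p 3 with h3 | h3
  · exact D.not_three hP hZi hZU haU haα h3
  have h5 : 5 ≤ p := by
    have h4 : p ≠ 4 := fun h => by
      have := hp.out; rw [h] at this; norm_num at this
    have := hp.out.two_le
    omega
  refine exists_transvection_base ρ hPair hsH h5 (fun w => ?_) ⟨hWc, hZbc, hEc⟩
    (Q.mapSurjective (QuotientGroup.mk'_surjective V)) (Sylow.coe_mapSurjective _ Q) hO
  obtain ⟨v, rfl⟩ := QuotientGroup.mk'_surjective F w
  rw [← map_pow, hVexp, map_one]

end CfsgLib.SchmidtKernel
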